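import Cfsg.Agent.H324.AP.Exp

/-!
# S4791, S4927, classical rows: dimensions of irreducible modules of `p`-groups (helper513)

`e = orderOf |F| mod p`.

* `dvd_finrank` : `C_M(P) = 0`: `e ∣ dim M`;
* `Irr.finrank_eq`, `Irr.comm` : `M` irreducible, not trivial, `dim M < p e`: `dim M = e` and `P` is commutative on `M`.
-/

set_option autoImplicit false

namespace Cfsg.Agent.H513.XC

open Submodule Module Polynomial
open Cfsg.Agent.H324.AP
open scoped LinearAlgebra.Projectivization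

universe u v

variable {F : Type u} [Field F] {V : Type v} [AddCommGroup V] [Module F V] {P : Subgroup (V ≃ₗ[F] V)} {p : ℕ}

/-- the action on an invariant subspace -/
@[reducible] def actM {M : Submodule F V} (hM : Inv P M) : DistribMulAction P M where
  smul g m := ⟨(g : V ≃ₗ[F] V) m, hM _ g.2 _ m.2⟩
  one_smul _ := rfl
  mul_smul _ _ _ := rfl
  smul_zero g := Subtype.ext (map_zero (g : V ≃ₗ[F] V))
  smul_add g _ _ := Subtype.ext (map_add (g : V ≃ₗ[F] V) _ _)

theorem card_modEq [Finite V] [Fact p.Prime] (hP : IsPGroup p P) {M : Submodule F V} (hM : Inv P M)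
    (hfix : ∀ m ∈ M, m ∈ fixP P → m = 0) : Nat.card M ≡ 1 [MOD p] := by
  let := actM hM
  have h1 := hP.card_modEq_card_fixedPoints M
  have h2 : MulAction.fixedPoints P M = {0} := by
    ext m
    rw [MulAction.mem_fixedPoints, Set.mem_singleton_iff]
    constructor
    · intro h
      exact Subtype.ext (hfix m m.2 fun g hg => congrArg Subtype.val (h ⟨g, hg⟩))
    · rintro rfl g
      exact smul_zero g
  rw [h2] at h1
  refine h1.trans ?_
  rw [Nat.card_unique]

/-- **(D1)** -/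
theorem dvd_finrank [Finite V] [Finite F] [Fact p.Prime] (hP : IsPGroup p P) {M : Submodule F V} (hM : Inv P M)
    (hfix : ∀ m ∈ M, m ∈ fixP P → m = 0) : orderOf ((Nat.card F : ℕ) : ZMod p) ∣ finrank F M := by
  have h1 := card_modEq hP hM hfix
  rw [Module.natCard_eq_pow_finrank (K := F), ← ZMod.natCast_eq_natCast_iff, Nat.cast_pow, Nat.cast_one] at h1
  exact orderOf_dvd_of_pow_eq_one h1

/-- a central element of order `p` of the group induced on an invariant subspace -/
theorem exists_central [Finite V] [hp : Fact p.Prime] (hP : IsPGroup p P) {D : Submodule F V} (hD : Inv P D)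
    (hne : ∃ g ∈ P, ∃ d ∈ D, g d ≠ d) :
    ∃ z ∈ P, (∀ g ∈ P, ∀ d ∈ D, g (z d) = z (g d)) ∧ (∀ d ∈ D, (z ^ p) d = d) ∧ ∃ d ∈ D, z d ≠ d := by
  have hfin : Finite (V ≃ₗ[F] V) := Finite.of_injective (fun g : V ≃ₗ[F] V => (g : V → V)) DFunLike.coe_injective
  let ρ : P →* Equiv.Perm D :=
    { toFun := fun g =>
        { toFun := fun d => ⟨(g : V ≃ₗ[F] V) d, hD _ g.2 _ d.2⟩
          invFun := fun d => ⟨((g⁻¹ : P) : V ≃ₗ[F] V) d, hD _ (g⁻¹ : P).2 _ d.2⟩
          left_inv := fun d => Subtype.ext (LinearEquiv.symm_apply_apply (g : V ≃ₗ[F] V) d)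
          right_inv := fun d => Subtype.ext (LinearEquiv.apply_symm_apply (g : V ≃ₗ[F] V) d) }
      map_one' := rfl
      map_mul' := fun _ _ => rfl }
  have hρ : ∀ (g : P) (d : D), ((ρ g d : D) : V) = (g : V ≃ₗ[F] V) d := fun _ _ => rfl
  have hRp : IsPGroup p ρ.range := by
    rw [MonoidHom.range_eq_map]
    exact (hP.to_subgroup ⊤).map ρ
  have hRn : Nontrivial ρ.range := by
    by_contra hne'
    rw [not_nontrivial_iff_subsingleton] at hne'
    obtain ⟨g, hg, d, hd, h1⟩ := hne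
    apply h1
    have h3 : (⟨ρ ⟨g, hg⟩, ⟨_, rfl⟩⟩ : ρ.range) = 1 := Subsingleton.elim _ _
    exact congrArg (fun f : ρ.range => ((f : Equiv.Perm D) ⟨d, hd⟩ : V)) h3
  have hfr : Finite ρ.range := inferInstance
  have hc := hRp.center_nontrivial
  have hcp : IsPGroup p (Subgroup.center ρ.range) := hRp.to_subgroup _
  have hdvd : p ∣ Nat.card (Subgroup.center ρ.range) := by
    obtain ⟨n, hn⟩ := IsPGroup.iff_card.1 hcp
    rw [hn]
    refine dvd_pow_self p ?_
    rintro rfl
    rw [pow_zero] at hn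
    have h1 := Finite.one_lt_card (α := Subgroup.center ρ.range)
    omega
  obtain ⟨⟨⟨zz, ⟨z, rfl⟩⟩, hzc⟩, hzo⟩ := exists_prime_orderOf_dvd_card' p hdvd
  refine ⟨z, z.2, fun g hg d hd => ?_, fun d hd => ?_, ?_⟩
  · have h3 := Subgroup.mem_center_iff.1 hzc ⟨ρ ⟨g, hg⟩, ⟨_, rfl⟩⟩
    exact congrArg (fun f : ρ.range => ((f : Equiv.Perm D) ⟨d, hd⟩ : V)) h3
  · have h3 := pow_orderOf_eq_one (⟨⟨ρ z, ⟨z, rfl⟩⟩, hzc⟩ : Subgroup.center ρ.range)
    rw [hzo] at h3
    have h4 : ρ (z ^ p) = 1 := by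
      rw [map_pow]
      exact congrArg (fun f : Subgroup.center ρ.range => ((f : ρ.range) : Equiv.Perm D)) h3
    exact congrArg (fun f : Equiv.Perm D => (f ⟨d, hd⟩ : V)) h4
  · by_contra hcon
    push Not at hcon
    have h1 : (⟨⟨ρ z, ⟨z, rfl⟩⟩, hzc⟩ : Subgroup.center ρ.range) = 1 := by
      apply Subtype.ext
      apply Subtype.ext
      apply Equiv.ext
      intro d
      exact Subtype.ext (hcon d d.2)
    rw [h1, orderOf_one] at hzo
    exact hp.out.one_lt.ne hzo

/-- the restriction of `z` -/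
abbrev resE {M : Submodule F V} {z : V ≃ₗ[F] V} (hz : ∀ m ∈ M, z m ∈ M) : Module.End F M := (toE z).restrict hz

theorem commute_aeval {A : Type*} [Ring A] [Algebra F A] {x y : A} (h : Commute x y) (f : F[X]) : Commute x (aeval y f) := by
  induction f using Polynomial.induction_on' with
  | add f g hf hg => rw [map_add]; exact hf.add_right hg
  | monomial n a =>
    rw [aeval_monomial]
    exact (Algebra.commute_algebraMap_right a x).mul_right (h.pow_right n)

section core

variable {M : Submodule F V} {z : V ≃ₗ[F] V}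

theorem res_comm (hM : Inv P M) (hz : ∀ m ∈ M, z m ∈ M) (hc : ∀ g ∈ P, ∀ d ∈ M, g (z d) = z (g d)) {g : V ≃ₗ[F] V}
    (hg : g ∈ P) (f : F[X]) (m : M) :
    resE (fun m hm => hM g hg m hm) (aeval (resE hz) f m) = aeval (resE hz) f (resE (fun m hm => hM g hg m hm) m) := by
  have h1 : Commute (resE (fun m hm => hM g hg m hm)) (resE hz) := by
    apply LinearMap.ext
    intro m
    exact Subtype.ext (hc g hg m m.2)
  exact LinearMap.congr_fun (commute_aeval h1 f).eq m

theorem ker_or (hM : Irr P M) (hz : ∀ m ∈ M, z m ∈ M) (hc : ∀ g ∈ P, ∀ d ∈ M, g (z d) = z (g d)) (f : F[X]) :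
    aeval (resE hz) f = 0 ∨ ∀ m, aeval (resE hz) f m = 0 → m = 0 := by
  let Y : Submodule F V := (LinearMap.ker (aeval (resE hz) f)).map M.subtype
  have hY : Y = ⊥ ∨ Y = M := by
    refine hM.min Y (Submodule.map_subtype_le _ _) ?_
    rintro g hg _ ⟨m, hm, rfl⟩
    refine ⟨resE (fun m hm => hM.inv g hg m hm) m, ?_, rfl⟩
    change aeval (resE hz) f _ = 0
    rw [← res_comm hM.inv hz hc hg, show aeval (resE hz) f m = 0 from hm, map_zero]
  rcases hY with hY | hY
  · right
    intro m hm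
    have h1 : (m : V) ∈ Y := ⟨m, hm, rfl⟩
    rw [hY] at h1
    exact Subtype.ext h1
  · left
    apply LinearMap.ext
    intro m
    have h1 : (m : V) ∈ Y := by rw [hY]; exact m.2
    obtain ⟨m', hm', h3⟩ := h1
    have h4 : m' = m := Subtype.ext h3
    rw [← h4]
    exact hm'

/-- **(D2)** -/
theorem core [Finite V] [Finite F] [hp : Fact p.Prime] (hP : IsPGroup p P) (hM : Irr P M)
    (hz : ∀ m ∈ M, z m ∈ M) (hc : ∀ g ∈ P, ∀ d ∈ M, g (z d) = z (g d)) (hzp : ∀ d ∈ M, (z ^ p) d = d)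
    (hz1 : ∃ d ∈ M, z d ≠ d)
    (hlt : finrank F M < p * orderOf ((Nat.card F : ℕ) : ZMod p)) :
    finrank F M = orderOf ((Nat.card F : ℕ) : ZMod p) ∧ ∀ a ∈ P, ∀ b ∈ P, ∀ m ∈ M, a (b m) = b (a m) := by
  classical
  set e := orderOf ((Nat.card F : ℕ) : ZMod p) with he
  let φ : F[X] →ₐ[F] Module.End F M := aeval (resE hz)
  let I : Ideal F[X] := RingHom.ker φ
  obtain ⟨m₀, hm₀, hm₀0⟩ := Submodule.exists_mem_ne_zero_of_ne_bot hM.ne
  have hI : I.IsPrime := by
    rw [Ideal.isPrime_iff]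
    refine ⟨?_, fun {f g} hfg => ?_⟩
    · intro h1
      have h2 : (1 : F[X]) ∈ I := by rw [h1]; trivial
      have h3 : φ 1 = 0 := h2
      rw [map_one] at h3
      apply hm₀0
      exact congrArg (fun f : Module.End F M => (f ⟨m₀, hm₀⟩ : V)) h3
    · have h1 : φ f * φ g = 0 := by rw [← map_mul]; exact hfg
      rcases ker_or hM hz hc f with h2 | h2
      · left; exact h2
      · right
        change φ g = 0
        apply LinearMap.ext
        intro m
        exact h2 _ (LinearMap.congr_fun h1 m)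
  have hfE : Finite (Module.End F M) := Finite.of_injective (fun f : Module.End F M => (f : M → M)) DFunLike.coe_injective
  have hfK : Finite (F[X] ⧸ I) := Finite.of_injective _ (RingHom.kerLift_injective φ.toRingHom)
  have hmax : I.IsMaximal := Ideal.Quotient.maximal_of_isField I (Finite.isField_of_domain (F[X] ⧸ I))
  let K := F[X] ⧸ I
  let _ : Field K := Ideal.Quotient.field I
  let _ : Module K M := Module.compHom M (RingHom.kerLift φ.toRingHom)
  have hsm : ∀ (f : F[X]) (m : M), (Ideal.Quotient.mk I f : K) • m = φ f m := fun _ _ => rfl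
  let ζ : K := Ideal.Quotient.mk I X
  have hζm : ∀ m : M, ζ • m = resE hz m := by
    intro m
    rw [hsm]
    change aeval (resE hz) X m = _
    rw [aeval_X]
  have hζn : ∀ (n : ℕ) (m : M), ((ζ ^ n • m : M) : V) = (z ^ n) m := by
    intro n
    induction n with
    | zero => intro m; rw [pow_zero, one_smul]; rfl
    | succ n ih =>
      intro m
      rw [pow_succ, mul_smul, ih, hζm, pow_succ]
      rfl
  have hm₀' : (⟨m₀, hm₀⟩ : M) ≠ 0 := fun h => hm₀0 (congrArg Subtype.val h)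
  have hζp : ζ ^ p = 1 := by
    have h1 : (ζ ^ p - 1) • (⟨m₀, hm₀⟩ : M) = 0 := by
      rw [sub_smul, one_smul, sub_eq_zero]
      apply Subtype.ext
      rw [hζn]
      exact hzp _ hm₀
    exact sub_eq_zero.1 ((smul_eq_zero.1 h1).resolve_right hm₀')
  have hζ1 : ζ ≠ 1 := by
    intro h1
    obtain ⟨d, hd, hd1⟩ := hz1
    apply hd1
    have h2 := hζm ⟨d, hd⟩
    rw [h1, one_smul] at h2
    exact (congrArg Subtype.val h2).symm
  have hζ0 : ζ ≠ 0 := by
    intro h1
    rw [h1, zero_pow hp.out.ne_zero] at hζp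
    exact zero_ne_one hζp
  have hoζ : orderOf (Units.mk0 ζ hζ0) = p := by
    refine orderOf_eq_prime ?_ ?_
    · ext; exact hζp
    · intro h1; exact hζ1 (congrArg Units.val h1)
  have hKp : (Nat.card K : ZMod p) = 1 := by
    have h1 := orderOf_dvd_natCard (Units.mk0 ζ hζ0)
    rw [hoζ, Nat.card_units] at h1
    have h2 : 0 < Nat.card K := Nat.card_pos
    have h3 : ((Nat.card K - 1 : ℕ) : ZMod p) = 0 := (ZMod.natCast_eq_zero_iff _ _).2 h1
    rw [Nat.cast_sub h2, Nat.cast_one, sub_eq_zero] at h3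
    exact h3
  have hKF : Nat.card K = Nat.card F ^ finrank F K := Module.natCard_eq_pow_finrank
  have hfr1 : e ∣ finrank F K := by
    rw [hKF, Nat.cast_pow] at hKp
    exact orderOf_dvd_of_pow_eq_one hKp
  have hfr0 : 0 < finrank F K := finrank_pos
  have he0 : 0 < e := Nat.pos_of_dvd_of_pos hfr1 hfr0
  have hfr2 : finrank F K ∣ e := by
    have := Fintype.ofFinite F
    rw [← FiniteField.orderOf_frobeniusAlgHom F K]
    apply orderOf_dvd_of_pow_eq_one
    refine Ideal.Quotient.algHom_ext _ ?_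
    refine Polynomial.algHom_ext ?_
    change (FiniteField.frobeniusAlgHom F K ^ e) ζ = ζ
    rw [AlgHom.coe_pow, FiniteField.coe_frobeniusAlgHom, pow_iterate, ← Nat.card_eq_fintype_card]
    change ζ ^ (Nat.card F ^ e) = ζ
    have h1 : Nat.card F ^ e ≡ 1 [MOD p] := by
      rw [← ZMod.natCast_eq_natCast_iff, Nat.cast_pow, Nat.cast_one]
      exact pow_orderOf_eq_one _
    have h2 : Units.mk0 ζ hζ0 ^ (Nat.card F ^ e) = Units.mk0 ζ hζ0 ^ 1 := by
      rw [pow_eq_pow_iff_modEq, hoζ]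
      exact h1
    rw [pow_one] at h2
    exact congrArg Units.val h2
  have hfr : finrank F K = e := Nat.dvd_antisymm hfr2 hfr1
  have hF1 : 1 < Nat.card F := Finite.one_lt_card
  have hMK : Nat.card M = Nat.card K ^ finrank K M := Module.natCard_eq_pow_finrank
  have hMF : Nat.card M = Nat.card F ^ finrank F M := Module.natCard_eq_pow_finrank
  have hdim : finrank F M = e * finrank K M := by
    rw [hKF, ← pow_mul, hfr, hMF] at hMK
    exact Nat.pow_right_injective hF1 hMK
  have hk : finrank K M < p := by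
    rw [hdim, mul_comm] at hlt
    exact lt_of_mul_lt_mul_right hlt (Nat.zero_le _)
  have hk0 : 0 < finrank K M := by
    rw [Nat.pos_iff_ne_zero]
    intro h1
    rw [h1, mul_zero] at hdim
    rw [hdim, pow_zero] at hMF
    have h2 := Finite.card_le_one_iff_subsingleton.1 hMF.le
    exact hm₀' (Subsingleton.elim _ _)
  let _ : DistribMulAction P M := actM hM.inv
  have hcl : SMulCommClass P K M := by
    refine ⟨fun g k m => ?_⟩
    obtain ⟨f, rfl⟩ := Ideal.Quotient.mk_surjective k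
    exact res_comm hM.inv hz hc g.2 f m
  have hlines : ¬ p ∣ Nat.card (ℙ K M) := by
    rw [Projectivization.card_of_finrank K M rfl, ← ZMod.natCast_eq_zero_iff, Nat.cast_sum]
    simp_rw [Nat.cast_pow, hKp, one_pow]
    rw [Finset.sum_const, Finset.card_range, nsmul_eq_mul, mul_one, ZMod.natCast_eq_zero_iff]
    exact fun h => absurd (Nat.le_of_dvd hk0 h) (not_le.2 hk)
  obtain ⟨L, hL⟩ := hP.nonempty_fixed_point_of_prime_not_dvd_card (ℙ K M) hlines
  set v := L.rep with hv
  have hv0 : v ≠ 0 := L.rep_nonzero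
  have hgv : ∀ g : P, ∃ k : K, k • v = g • v := by
    intro g
    have h1 := hL g
    rw [← L.mk_rep, Projectivization.smul_mk, Projectivization.mk_eq_mk_iff'] at h1
    exact h1
  have hall : ∀ m : M, ∃ k : K, k • v = m := by
    let Y : Submodule F V :=
      { carrier := {y | ∃ k : K, ((k • v : M) : V) = y}
        add_mem' := by
          rintro _ _ ⟨a, rfl⟩ ⟨b, rfl⟩
          exact ⟨a + b, by rw [add_smul]; rfl⟩
        zero_mem' := ⟨0, by rw [zero_smul]; rfl⟩
        smul_mem' := by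
          rintro c _ ⟨a, rfl⟩
          refine ⟨c • a, ?_⟩
          obtain ⟨f, rfl⟩ := Ideal.Quotient.mk_surjective a
          change ((φ (c • f) v : M) : V) = c • ((φ f v : M) : V)
          rw [map_smul]
          rfl }
    have hY : Y ≤ M := by
      rintro _ ⟨k, rfl⟩
      exact (k • v).2
    have hYi : Inv P Y := by
      rintro g hg _ ⟨k, rfl⟩
      obtain ⟨k', hk'⟩ := hgv ⟨g, hg⟩
      refine ⟨k * k', ?_⟩
      rw [mul_smul, hk', ← smul_comm]
      rfl
    rcases hM.min Y hY hYi with h1 | h1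
    · exfalso
      have h2 : (v : V) ∈ Y := ⟨1, by rw [one_smul]⟩
      rw [h1] at h2
      exact hv0 (Subtype.ext h2)
    · intro m
      have h2 : (m : V) ∈ Y := by rw [h1]; exact m.2
      obtain ⟨k, hk⟩ := h2
      exact ⟨k, Subtype.ext hk⟩
  have hk1 : finrank K M = 1 := finrank_eq_one v hv0 hall
  refine ⟨by rw [hdim, hk1, mul_one], fun a ha b hb m hm => ?_⟩
  have key : ∀ g : P, ∃ k : K, ∀ m : M, g • m = k • m := by
    intro g
    obtain ⟨k, hk⟩ := hgv g
    refine ⟨k, fun m => ?_⟩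
    obtain ⟨l, rfl⟩ := hall m
    rw [smul_comm g l v, ← hk, smul_smul, smul_smul, mul_comm]
  obtain ⟨k, hk⟩ := key ⟨a, ha⟩
  obtain ⟨l, hl⟩ := key ⟨b, hb⟩
  have h1 : (⟨a, ha⟩ : P) • ((⟨b, hb⟩ : P) • (⟨m, hm⟩ : M)) = (⟨b, hb⟩ : P) • ((⟨a, ha⟩ : P) • (⟨m, hm⟩ : M)) := by
    rw [hk, hl, hl, hk, smul_smul, smul_smul, mul_comm]
  exact congrArg Subtype.val h1

end core

theorem ne_of_nofix {M : Submodule F V} (hM : M ≠ ⊥) (hfix : ∀ m ∈ M, m ∈ fixP P → m = 0) :
    ∃ g ∈ P, ∃ d ∈ M, g d ≠ d := by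
  by_contra hcon
  push Not at hcon
  obtain ⟨m, hm, hm0⟩ := Submodule.exists_mem_ne_zero_of_ne_bot hM
  exact hm0 (hfix m hm fun g hg => hcon g hg m hm)

theorem nofix_of_ne {M : Submodule F V} (hM : Irr P M) (hne : ∃ g ∈ P, ∃ d ∈ M, g d ≠ d) :
    ∀ m ∈ M, m ∈ fixP P → m = 0 := by
  rcases hM.min _ inf_le_left (hM.inv.inf (inv_fixP P)) with h1 | h1
  · intro m hm hm'
    have h2 : m ∈ M ⊓ fixP P := ⟨hm, hm'⟩
    rw [h1] at h2
    exact h2
  · exfalso
    obtain ⟨g, hg, d, hd, h2⟩ := hne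
    rw [← h1] at hd
    exact h2 (hd.2 g hg)

/-- **(D2)** -/
theorem Irr.dim [Finite V] [Finite F] [Fact p.Prime] (hP : IsPGroup p P) {M : Submodule F V} (hM : Irr P M)
    (hne : ∃ g ∈ P, ∃ d ∈ M, g d ≠ d) (hlt : finrank F M < p * orderOf ((Nat.card F : ℕ) : ZMod p)) :
    finrank F M = orderOf ((Nat.card F : ℕ) : ZMod p) := by
  obtain ⟨z, hz, h1, h2, h3⟩ := exists_central hP hM.inv hne
  exact (core hP hM (hM.inv z hz) h1 h2 h3 hlt).1

/-- **(D2)** -/
theorem Irr.comm [Finite V] [Finite F] [Fact p.Prime] (hP : IsPGroup p P) {M : Submodule F V} (hM : Irr P M)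
    (hlt : finrank F M < p * orderOf ((Nat.card F : ℕ) : ZMod p)) : ∀ a ∈ P, ∀ b ∈ P, ∀ m ∈ M, a (b m) = b (a m) := by
  by_cases hne : ∃ g ∈ P, ∃ d ∈ M, g d ≠ d
  · obtain ⟨z, hz, h1, h2, h3⟩ := exists_central hP hM.inv hne
    exact (core hP hM (hM.inv z hz) h1 h2 h3 hlt).2
  · push Not at hne
    intro a ha b hb m hm
    rw [hne b hb m hm, hne a ha m hm, hne b hb m hm]

theorem Irr.le_finrank [Finite V] [Finite F] [Fact p.Prime] (hP : IsPGroup p P) {M : Submodule F V} (hM : Irr P M)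
    (hne : ∃ g ∈ P, ∃ d ∈ M, g d ≠ d) : orderOf ((Nat.card F : ℕ) : ZMod p) ≤ finrank F M := by
  refine Nat.le_of_dvd ?_ (dvd_finrank hP hM.inv (nofix_of_ne hM hne))
  have := Module.finite_of_finite F (M := M)
  have h1 : Nontrivial M := Submodule.nontrivial_iff_ne_bot.2 hM.ne
  exact finrank_pos

theorem pow_app (z : V ≃ₗ[F] V) (n : ℕ) (d : V) : (z ^ n) d = (⇑z)^[n] d := by
  induction n with
  | zero => rfl
  | succ n ih => rw [pow_succ', LinearEquiv.mul_apply, ih, Function.iterate_succ_apply']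

theorem dvd_of_pow_apply [hp : Fact p.Prime] {z : V ≃ₗ[F] V} {d : V} (h1 : z d ≠ d) (hzp : (z ^ p) d = d) {n : ℕ}
    (hn : (z ^ n) d = d) : p ∣ n := by
  have h2 : Function.minimalPeriod (⇑z) d ∣ p :=
    Function.IsPeriodicPt.minimalPeriod_dvd (show (⇑z)^[p] d = d by rw [← pow_app]; exact hzp)
  have h3 : Function.minimalPeriod (⇑z) d ∣ n :=
    Function.IsPeriodicPt.minimalPeriod_dvd (show (⇑z)^[n] d = d by rw [← pow_app]; exact hn)
  rcases (Nat.dvd_prime hp.out).1 h2 with h4 | h4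
  · exact absurd (Function.minimalPeriod_eq_one_iff_isFixedPt.1 h4) h1
  · rwa [h4] at h3

end Cfsg.Agent.H513.XC
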