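import Cfsg.Agent.H324.AP.Form
import Cfsg.Agent.H513.XC.Line

/-!
# S4791, S4927, classical rows: dimensions of the blocks of a `p`-subgroup of an isometry group (helper513)

`e = orderOf |F| mod p`; `E ≤ 2 e`, and `E ≤ e` if `- r ^ s` is a power of `|F|` modulo `p`.

* `neg_mem` : an irreducible nondegenerate `D` without fixed points: `- r ^ s` is a power of `|F|`;
* `MinS.le_finrank`, `MinS.comm` : the blocks `D` have dimension `≥ E`, `P` is commutative on `D` if `dim D < p E`;
* `frame_le` : `n E + dim C_V(P) ≤ dim V`;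
* `abelian_of_lt`, `cyclic_of_lt` : `P` is abelian if `dim V < p E + dim C_V(P)`, cyclic if `dim V < 2 E + dim C_V(P)`.
-/

set_option autoImplicit false

namespace Cfsg.Agent.H513.XC

open Submodule Module Polynomial
open Cfsg.Agent.H324.AP

universe u v

variable {F : Type u} [Field F] {V : Type v} [AddCommGroup V] [Module F V] {P : Subgroup (V ≃ₗ[F] V)} {p : ℕ}

theorem res_val {M : Submodule F V} {z : V ≃ₗ[F] V} (hz : ∀ m ∈ M, z m ∈ M) (f : F[X]) (m : M) :
    ((aeval (resE hz) f m : M) : V) = aeval (toE z) f (m : V) := by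
  have hpow : ∀ (n : ℕ) (m : M), (((resE hz ^ n) m : M) : V) = (toE z ^ n) m := by
    intro n
    induction n with
    | zero => intro m; rfl
    | succ n ih =>
      intro m
      rw [pow_succ, pow_succ, Module.End.mul_apply, Module.End.mul_apply, ih]
      rfl
  induction f using Polynomial.induction_on' with
  | add f g hf hg =>
    rw [map_add, map_add, LinearMap.add_apply, LinearMap.add_apply, ← hf, ← hg]
    rfl
  | monomial n a =>
    rw [aeval_monomial, aeval_monomial, Module.End.mul_apply, Module.End.mul_apply, Module.algebraMap_end_apply,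
      Module.algebraMap_end_apply, ← hpow]
    rfl

/-- the field of an irreducible module with a central element `z` -/
theorem exists_field_c [Finite V] {M : Submodule F V} {z : V ≃ₗ[F] V} (hM : Irr P M) (hz : ∀ m ∈ M, z m ∈ M)
    (hc : ∀ g ∈ P, ∀ d ∈ M, g (z d) = z (g d)) :
    ∃ (K : Type u) (_ : Field K) (_ : Finite K) (_ : Algebra F K) (ζ : K), ∀ f : F[X],
      (∀ m ∈ M, aeval (toE z) f m = 0) ↔ aeval ζ f = 0 := by
  have hfin : Finite (V ≃ₗ[F] V) := Finite.of_injective (fun g : V ≃ₗ[F] V => (g : V → V)) DFunLike.coe_injective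
  have hfd : FiniteDimensional F V := Module.Finite.of_finite
  have key : ∀ Y : Submodule F V, (∀ m ∈ Y, z m ∈ Y) → Inv (Subgroup.zpowers z) Y := by
    intro Y hY g hg x hx
    rw [← (isOfFinOrder_of_finite z).mem_powers_iff_mem_zpowers] at hg
    obtain ⟨k, rfl⟩ := hg
    change (z ^ k) x ∈ Y
    induction k generalizing x with
    | zero => exact hx
    | succ k ih =>
      rw [pow_succ, LinearEquiv.mul_apply]
      exact ih _ (hY x hx)
  obtain ⟨X, hXM, hX⟩ := exists_irr (key M hz) hM.ne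
  obtain ⟨K, i1, i2, i3, ζ, hζ⟩ := exists_field (fun m hm => hX.inv z (Subgroup.mem_zpowers z) m hm) hX.ne
    fun Y hY hYz => hX.min Y hY (key Y hYz)
  refine ⟨K, i1, i2, i3, ζ, fun f => ?_⟩
  rw [← hζ]
  refine ⟨fun h m hm => h m (hXM hm), fun h m hm => ?_⟩
  rcases ker_or hM hz hc f with h1 | h1
  · rw [← res_val hz f ⟨m, hm⟩, h1]
    rfl
  · exfalso
    obtain ⟨x, hx, hx0⟩ := Submodule.exists_mem_ne_zero_of_ne_bot hX.ne
    apply hx0
    have h2 := h1 ⟨x, hXM hx⟩ (Subtype.ext (by rw [res_val]; exact h x hx))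
    exact congrArg Subtype.val h2

section form

variable {τ : F →+* F} {B : V → V → F} {G : Subgroup (V ≃ₗ[F] V)}

/-- **(D3)** -/
theorem neg_mem [Finite V] [Finite F] [hp : Fact p.Prime] (h : SplF τ B G) {r s : ℕ} [Fact r.Prime] [CharP F r]
    (hτ : ∀ a, τ a = a ^ (r ^ s)) (hPG : P ≤ G) (hP : IsPGroup p P) {M : Submodule F V} (hM : Irr P M) (hnd : ND B M)
    (hne : ∃ g ∈ P, ∃ d ∈ M, g d ≠ d) :
    ∃ j : ℕ, -((r ^ s : ℕ) : ZMod p) * ((Nat.card F : ℕ) : ZMod p) ^ j = 1 := by
  have hfin : Finite (V ≃ₗ[F] V) := Finite.of_injective (fun g : V ≃ₗ[F] V => (g : V → V)) DFunLike.coe_injective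
  obtain ⟨z, hzP, hc, hzp, d, hd, hd1⟩ := exists_central hP hM.inv hne
  have hz := hPG hzP
  obtain ⟨K, _, _, _, ζ, hζ⟩ := exists_field_c hM (hM.inv z hzP) hc
  have hchar : CharP K r := charP_of_injective_algebraMap (algebraMap F K).injective r
  have hexp : ExpChar K r := ExpChar.prime Fact.out
  set t' := orderOf z - 1 with ht'
  have ho : 0 < orderOf z := orderOf_pos z
  have htt : z ^ t' * z = 1 := by
    rw [← pow_succ, show t' + 1 = orderOf z by omega, pow_orderOf_eq_one]
  have h1 := (hζ (minpoly F ζ)).2 (minpoly.aeval F ζ)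
  have h2 : aeval (ζ ^ t') ((minpoly F ζ).map τ) = 0 := by
    rw [← expand_aeval, ← hζ]
    intro m hm
    rw [← aeval_pow_expand]
    have hM' : ∀ m ∈ M, (z ^ t') m ∈ M := by
      intro m hm
      have h3 := aeval_mem (z := z) (hM.inv z hzP) (X ^ t' : F[X]) hm
      rwa [H324.AP.aeval_X_pow] at h3
    refine hnd _ (aeval_mem hM' _ hm) fun n hn => ?_
    rw [← h.aeval_adj (G.pow_mem hz t') htt (minpoly F ζ) m n, h1 _ hn, h.zero_right]
  let θ : K →+* K := iterateFrobenius K r s
  have hθ : ∀ a, θ a = a ^ r ^ s := fun a => iterateFrobenius_def ..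
  obtain ⟨η', hη'⟩ := (Finite.injective_iff_surjective.1 θ.injective) (ζ ^ t')
  have h3 : aeval η' (minpoly F ζ) = 0 := by
    apply θ.injective
    rw [map_zero, aeval_def, Polynomial.hom_eval₂, hη']
    rw [aeval_def, Polynomial.eval₂_map] at h2
    rw [← h2]
    congr 1
    ext a
    rw [RingHom.comp_apply, RingHom.comp_apply, hθ, hτ, map_pow]
  obtain ⟨j, hj⟩ := root_eq_pow h3
  refine ⟨j, ?_⟩
  have h4 : aeval ζ (X ^ t' - X ^ (r ^ s * Nat.card F ^ j) : F[X]) = 0 := by
    rw [map_sub, map_pow, map_pow, aeval_X, ← hη', hj, hθ, ← pow_mul, mul_comm, sub_self]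
  have h5 := (hζ _).2 h4 (z d) (hM.inv z hzP d hd)
  rw [map_sub, LinearMap.sub_apply, H324.AP.aeval_X_pow, H324.AP.aeval_X_pow, sub_eq_zero] at h5
  have h6 : (z ^ (r ^ s * Nat.card F ^ j + 1)) d = d := by
    rw [pow_succ, LinearEquiv.mul_apply, ← h5]
    change (z ^ t' * z) d = d
    rw [htt]
    rfl
  have h7 := dvd_of_pow_apply hd1 (hzp d hd) h6
  have h8 : ((r ^ s * Nat.card F ^ j + 1 : ℕ) : ZMod p) = 0 := (ZMod.natCast_eq_zero_iff _ _).2 h7
  rw [Nat.cast_add, Nat.cast_mul, Nat.cast_one, Nat.cast_pow (Nat.card F)] at h8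
  rw [neg_mul]
  exact (eq_neg_of_add_eq_zero_right h8).symm

/-- dimensions of paired subspaces -/
theorem finrank_le_of_pair [Finite V] [Finite F] (h : SplF τ B G) {M N : Submodule F V}
    (hMN : ∀ m ∈ M, (∀ n ∈ N, B m n = 0) → m = 0) : finrank F M ≤ finrank F N := by
  have hfd : FiniteDimensional F V := Module.Finite.of_finite
  let Φ : M → Module.Dual F N := fun m =>
    { toFun := fun n => B (n : V) (m : V)
      map_add' := fun a b => h.add_left _ _ _
      map_smul' := fun c a => h.smul_left _ _ _ }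
  have hinj : Function.Injective Φ := by
    intro a b hab
    have h1 : (a : V) - b = 0 := by
      refine hMN _ (M.sub_mem a.2 b.2) fun n hn => ?_
      apply h.refl
      rw [h.sub_right, sub_eq_zero]
      exact LinearMap.congr_fun hab ⟨n, hn⟩
    exact Subtype.ext (sub_eq_zero.1 h1)
  have hfD : Finite (Module.Dual F N) := Finite.of_injective (fun f : Module.Dual F N => (f : N → F)) DFunLike.coe_injective
  have h1 := Nat.card_le_card_of_injective Φ hinj
  rw [Module.natCard_eq_pow_finrank (K := F), Module.natCard_eq_pow_finrank (K := F) (V := Module.Dual F N),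
    Subspace.dual_finrank_eq] at h1
  exact (Nat.pow_le_pow_iff_right Finite.one_lt_card).1 h1

theorem Two.finrank_eq [Finite V] [Finite F] (h : SplF τ B G) {D M N : Submodule F V} (h2 : Two B P D M N) :
    finrank F M = finrank F N ∧ finrank F D = 2 * finrank F M := by
  have hfd : FiniteDimensional F V := Module.Finite.of_finite
  have h3 : finrank F M = finrank F N := le_antisymm (finrank_le_of_pair h h2.pM) (finrank_le_of_pair h h2.pN)
  refine ⟨h3, ?_⟩
  have h4 := Submodule.finrank_sup_add_finrank_inf_eq M N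
  rw [h2.sup, h2.inf, finrank_bot] at h4
  omega

variable {E : ℕ}

/-- **(D4)** -/
theorem MinS.le_finrank [Finite V] [Finite F] [Fact p.Prime] (hpF : (p : F) ≠ 0) (h : SplF τ B G) {r s : ℕ} [Fact r.Prime]
    [CharP F r] (hτ : ∀ a, τ a = a ^ (r ^ s)) (hE2 : E ≤ 2 * orderOf ((Nat.card F : ℕ) : ZMod p))
    (hE1 : ∀ j : ℕ, -((r ^ s : ℕ) : ZMod p) * ((Nat.card F : ℕ) : ZMod p) ^ j = 1 →
      E ≤ orderOf ((Nat.card F : ℕ) : ZMod p)) (hPG : P ≤ G) (hP : IsPGroup p P)
    {D : Submodule F V} (hD : MinS B P D) (hfix : ∀ u ∈ D, u ∈ fixP P → u = 0) : E ≤ finrank F D := by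
  have hfd : FiniteDimensional F V := Module.Finite.of_finite
  rcases hD.irr_or_two hpF h hPG hP with h1 | ⟨M, N, h1⟩
  · have hne := ne_of_nofix h1.ne hfix
    obtain ⟨j, hj⟩ := neg_mem h hτ hPG hP h1 hD.nd hne
    exact (hE1 j hj).trans (Irr.le_finrank hP h1 hne)
  · have hMD : M ≤ D := h1.sup ▸ le_sup_left
    have hne := ne_of_nofix h1.irrM.ne fun u hu => hfix u (hMD hu)
    have h3 := Irr.le_finrank hP h1.irrM hne
    have h4 := (Two.finrank_eq h h1).2
    omega

/-- **(D4)** -/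
theorem MinS.comm [Finite V] [Finite F] [Fact p.Prime] (hpF : (p : F) ≠ 0) (h : SplF τ B G) {r s : ℕ} [Fact r.Prime]
    [CharP F r] (hτ : ∀ a, τ a = a ^ (r ^ s)) (hE2 : E ≤ 2 * orderOf ((Nat.card F : ℕ) : ZMod p))
    (hE1 : ∀ j : ℕ, -((r ^ s : ℕ) : ZMod p) * ((Nat.card F : ℕ) : ZMod p) ^ j = 1 →
      E ≤ orderOf ((Nat.card F : ℕ) : ZMod p)) (hPG : P ≤ G) (hP : IsPGroup p P)
    {D : Submodule F V} (hD : MinS B P D) (hlt : finrank F D < p * E) :
    ∀ a ∈ P, ∀ b ∈ P, ∀ m ∈ D, a (b m) = b (a m) := by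
  have hfd : FiniteDimensional F V := Module.Finite.of_finite
  rcases hD.irr_or_two hpF h hPG hP with h1 | ⟨M, N, h1⟩
  · by_cases hne : ∃ g ∈ P, ∃ d ∈ D, g d ≠ d
    · obtain ⟨j, hj⟩ := neg_mem h hτ hPG hP h1 hD.nd hne
      exact Irr.comm hP h1 (hlt.trans_le (Nat.mul_le_mul_left p (hE1 j hj)))
    · push Not at hne
      intro a ha b hb m hm
      rw [hne b hb m hm, hne a ha m hm, hne b hb m hm]
  · obtain ⟨h4, h5⟩ := Two.finrank_eq h h1
    have h6 : p * E ≤ 2 * (p * orderOf ((Nat.card F : ℕ) : ZMod p)) := by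
      rw [mul_left_comm]
      exact Nat.mul_le_mul_left p hE2
    have h7 : finrank F M < p * orderOf ((Nat.card F : ℕ) : ZMod p) := by omega
    have h8 : finrank F N < p * orderOf ((Nat.card F : ℕ) : ZMod p) := by omega
    intro a ha b hb m hm
    rw [← h1.sup] at hm
    obtain ⟨x, hx, y, hy, rfl⟩ := Submodule.mem_sup.1 hm
    rw [map_add, map_add, map_add, map_add, Irr.comm hP h1.irrM h7 a ha b hb x hx,
      Irr.comm hP h1.irrN h8 a ha b hb y hy]

end form

end Cfsg.Agent.H513.XC
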