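import Cfsg.Agent.H513.XC.Fin
import Cfsg.Agent.H324.AP.PSU
import Cfsg.Agent.H324.AP.POm

/-!
# S4791, S4927, classical rows: small dimensions, `PSU_n(q)`, `PSp_2m(q)`, orthogonal groups (helper513)
-/

set_option autoImplicit false
set_option linter.unusedSectionVars false

open Cfsg Subgroup Module
open scoped Matrix

namespace Cfsg.Agent.H513.XC

open Cfsg.Agent.H324.AP
open Cfsg.Agent.H443.XC

universe u

section psu

open Cfsg.Agent.BpCl (Iso mem_Iso)

variable {F : Type} [Field F] [Fintype F] {n : ℕ} {S : Type u} [Group S]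

/-- the model of `PSU_n(q)` -/
theorem psu_model {r s : ℕ} [hr : Fact r.Prime] [CharP F r] (e : S ≃* PSU n F (r ^ s)) :
    ∃ (φ : ↥(SU n F (r ^ s)) →* ((Fin n → F) ≃ₗ[F] (Fin n → F))) (π : ↥(SU n F (r ^ s)) →* S), Function.Injective φ ∧
      (∀ x, φ x ∈ Iso (hermForm n F (r ^ s))) ∧ Function.Surjective π := by
  let φ : ↥(SU n F (r ^ s)) →* ((Fin n → F) ≃ₗ[F] (Fin n → F)) :=
    Matrix.SpecialLinearGroup.toLin'.comp (SU n F (r ^ s)).subtype
  have hφ : Function.Injective φ :=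
    Matrix.SpecialLinearGroup.toLin'_injective.comp (SU n F (r ^ s)).subtype_injective
  have hφa : ∀ (x : ↥(SU n F (r ^ s))) (v : Fin n → F), φ x v = slToMat n F x *ᵥ v := by
    intro x v
    change Matrix.toLin' _ v = _
    rw [Matrix.toLin'_apply]
    rfl
  let π : ↥(SU n F (r ^ s)) →* S := (e.symm.toMonoidHom).comp (QuotientGroup.mk' (center ↥(SU n F (r ^ s))))
  have hπ : Function.Surjective π := e.symm.surjective.comp (QuotientGroup.mk'_surjective _)
  refine ⟨φ, π, hφ, fun x u v => ?_, hπ⟩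
  rw [hφa, hφa]
  exact x.2 u v

variable {p r q : ℕ} [hp : Fact p.Prime] [hr : Fact r.Prime] [CharP F r]

/-- **`PSU_n(q)`**: abelian Sylow subgroups -/
theorem abSyl_psu (hrp : r ≠ p) (hF : Fintype.card F = q ^ 2) (e : S ≃* PSU n F q) (hlt : n < p * dSU p q) :
    AbSyl p S := by
  obtain ⟨s, rfl⟩ := exists_q r hF
  obtain ⟨φ, π, h1, h2, h3⟩ := psu_model e
  refine abSyl_of_lt hrp (splF_herm hF) (fun a => iterateFrobenius_def ..)
    (BlkDim.su (by rw [Nat.card_eq_fintype_card]; exact hF)) φ h1 h2 π h3 ?_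
  rw [finrank_fin_fun]
  exact hlt

/-- **`PSU_n(q)`**: noncyclic Sylow subgroups -/
theorem le_psu (hrp : r ≠ p) (hF : Fintype.card F = q ^ 2) (e : S ≃* PSU n F q)
    (hP : ∃ P : Sylow p S, ¬ IsCyclic (P : Subgroup S)) : 2 * dSU p q ≤ n := by
  obtain ⟨s, rfl⟩ := exists_q r hF
  obtain ⟨φ, π, h1, h2, h3⟩ := psu_model e
  obtain ⟨P, hP⟩ := hP
  by_contra hcon
  refine hP (cyc_of_lt hrp (splF_herm hF) (fun a => iterateFrobenius_def ..)
    (BlkDim.su (by rw [Nat.card_eq_fintype_card]; exact hF)) φ h1 h2 π h3 ?_ P)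
  rw [finrank_fin_fun]
  omega

end psu

section sp

open Cfsg.Agent.H806.KB (Gam eSp sq_center_Gam spl_alt)
open Cfsg.Agent.ClassicalGeometry.SympBasic Cfsg.Agent.ClassicalGeometry.SympAutSemi
  Cfsg.Agent.ClassicalGeometry.SympGamma

variable {F : Type} [Field F] [Fintype F] {m : ℕ} {S : Type u} [Group S] {p r : ℕ} [hp : Fact p.Prime] [hr : Fact r.Prime]
  [CharP F r]

theorem splF_Gam (m : ℕ) (F : Type) [Field F] [Fintype F] :
    SplF (RingHom.id F) (fun u v => sympBilin m F u v) (Gam m F) :=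
  splF_of_spl (spl_alt (fun v => sympForm_self v) fun u hu => eq_zero_of_forall_sympForm_right hu)

/-- the projection of the symplectic group -/
theorem exists_pi (e : S ≃* PSp m F) : ∃ π : ↥(Gam m F) →* S, Function.Surjective π :=
  ⟨(((Cfsg.Agent.LieClassical.OrthFinite.quotientCenterCongr (eSp m F)).symm.trans
    e.symm).toMonoidHom).comp (QuotientGroup.mk' (center ↥(Gam m F))),
    (((Cfsg.Agent.LieClassical.OrthFinite.quotientCenterCongr (eSp m F)).symm.trans e.symm).surjective).comp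
      (QuotientGroup.mk'_surjective _)⟩

/-- **`PSp_2m(q)`**: abelian Sylow subgroups -/
theorem abSyl_psp (hrp : r ≠ p) (hp2 : p ≠ 2) (e : S ≃* PSp m F) (hlt : 2 * m < p * dSp p (Fintype.card F)) :
    AbSyl p S := by
  obtain ⟨π, hπ⟩ := exists_pi e
  refine abSyl_of_lt hrp (splF_Gam m F) (r := r) (s := 0) (fun a => by rw [pow_zero, pow_one]; rfl)
    (BlkDim.sp hp2) (Gam m F).subtype (Gam m F).subtype_injective (fun x => x.2) π hπ ?_
  rw [Nat.card_eq_fintype_card, finrank_fintype_fun_eq_card, Fintype.card_sum, Fintype.card_fin]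
  omega

/-- **`PSp_2m(q)`**: noncyclic Sylow subgroups -/
theorem le_psp (hrp : r ≠ p) (hp2 : p ≠ 2) (e : S ≃* PSp m F) (hP : ∃ P : Sylow p S, ¬ IsCyclic (P : Subgroup S)) :
    dSp p (Fintype.card F) ≤ m := by
  obtain ⟨π, hπ⟩ := exists_pi e
  obtain ⟨P, hP⟩ := hP
  by_contra hcon
  refine hP (cyc_of_lt hrp (splF_Gam m F) (r := r) (s := 0) (fun a => by rw [pow_zero, pow_one]; rfl)
    (BlkDim.sp hp2) (Gam m F).subtype (Gam m F).subtype_injective (fun x => x.2) π hπ ?_ P)
  rw [Nat.card_eq_fintype_card, finrank_fintype_fun_eq_card, Fintype.card_sum, Fintype.card_fin]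
  omega

end sp

section orth

open Cfsg.Agent.LieClassical.OrthCore Cfsg.Agent.LieClassical.OrthTrans Cfsg.Agent.LieClassical.OrthForms
open Cfsg.Agent.LieClassical.OrthFinite

variable {p r : ℕ} [hp : Fact p.Prime] [hr : Fact r.Prime] {F V : Type*} [Field F] [Fintype F]
    [CharP F r] [AddCommGroup V] [Module F V] [Finite V] {Q : QuadraticForm F V} {S : Type u} [Group S]

/-- **orthogonal groups**: abelian Sylow subgroups -/
theorem abSyl_EQ (hrp : r ≠ p) (hp2 : p ≠ 2) (hG : Good Q) (e : S ≃* (↥(E Q) ⧸ center ↥(E Q)))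
    (hlt : finrank F V < p * dSp p (Fintype.card F)) : AbSyl p S := by
  have hfd : FiniteDimensional F V := Module.finite_of_finrank_pos (by have := hG.dim; omega)
  refine abSyl_of_lt hrp (splF_of_spl (Cfsg.Agent.H418.KB.spl_O hG.nondeg)) (r := r) (s := 0)
    (fun a => by rw [pow_zero, pow_one]; rfl) (BlkDim.sp hp2) (E Q).subtype (E Q).subtype_injective (fun x => E_le_O x.2)
    ((e.symm.toMonoidHom).comp (QuotientGroup.mk' (center ↥(E Q))))
    (e.symm.surjective.comp (QuotientGroup.mk'_surjective _)) ?_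
  rw [Nat.card_eq_fintype_card]
  exact hlt

/-- **orthogonal groups**: noncyclic Sylow subgroups -/
theorem le_EQ (hrp : r ≠ p) (hp2 : p ≠ 2) (hG : Good Q) (e : S ≃* (↥(E Q) ⧸ center ↥(E Q)))
    (hP : ∃ P : Sylow p S, ¬ IsCyclic (P : Subgroup S)) : 2 * dSp p (Fintype.card F) ≤ finrank F V := by
  have hfd : FiniteDimensional F V := Module.finite_of_finrank_pos (by have := hG.dim; omega)
  obtain ⟨P, hP⟩ := hP
  by_contra hcon
  refine hP (cyc_of_lt hrp (splF_of_spl (Cfsg.Agent.H418.KB.spl_O hG.nondeg)) (r := r) (s := 0)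
    (fun a => by rw [pow_zero, pow_one]; rfl) (BlkDim.sp hp2) (E Q).subtype (E Q).subtype_injective (fun x => E_le_O x.2)
    ((e.symm.toMonoidHom).comp (QuotientGroup.mk' (center ↥(E Q))))
    (e.symm.surjective.comp (QuotientGroup.mk'_surjective _)) ?_ P)
  rw [Nat.card_eq_fintype_card]
  omega

end orth

end Cfsg.Agent.H513.XC
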