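import Cfsg.Agent.H513.XC.Dim

/-!
# S4791, S4927, classical rows: small dimensions (helper513)

`P` a `p`-subgroup of an isometry group, `E` as in `H513/XC/Dim`.

* `frame_le` : `n E + dim C_V(P) ≤ dim V`;
* `abelian_of_lt`, `cyclic_of_lt` : `P` is abelian if `dim V < p E + dim C_V(P)`, cyclic if `dim V < 2 E + dim C_V(P)`.
-/

set_option autoImplicit false
set_option linter.unusedSectionVars false

namespace Cfsg.Agent.H513.XC

open Submodule Module
open Cfsg.Agent.H324.AP

universe u v w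

variable {F : Type u} [Field F] {V : Type v} [AddCommGroup V] [Module F V] {P : Subgroup (V ≃ₗ[F] V)} {p : ℕ}
  {τ : F →+* F} {B : V → V → F} {G : Subgroup (V ≃ₗ[F] V)} {E : ℕ}

/-- the conditions on the block dimension `E` -/
structure BlkDim (F : Type u) [Field F] (p r s E : ℕ) : Prop where
  two : E ≤ 2 * orderOf ((Nat.card F : ℕ) : ZMod p)
  one : ∀ j : ℕ, -((r ^ s : ℕ) : ZMod p) * ((Nat.card F : ℕ) : ZMod p) ^ j = 1 →
      E ≤ orderOf ((Nat.card F : ℕ) : ZMod p)

/-- dimension of an orthogonal sum -/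
theorem sum_finrank_le [Finite V] {n : ℕ} {D : Fin n → Submodule F V} (h : SplF τ B G)
    (hnd : ∀ i, ND B (D i)) (ho : ∀ i j, i ≠ j → ∀ u ∈ D i, ∀ w ∈ D j, B u w = 0) {X : Submodule F V}
    (hX : ∀ i, D i ≤ h.perp X) : (∑ i, finrank F (D i)) + finrank F X ≤ finrank F V := by
  have hfd : FiniteDimensional F V := Module.Finite.of_finite
  let Ψ : ((i : Fin n) → D i) × X →ₗ[F] V :=
    { toFun := fun x => (∑ i, (x.1 i : V)) + x.2
      map_add' := fun x y => by
        simp only [Prod.fst_add, Prod.snd_add, Pi.add_apply, Submodule.coe_add, Finset.sum_add_distrib]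
        abel
      map_smul' := fun c x => by
        simp only [Prod.smul_fst, Prod.smul_snd, Pi.smul_apply, Submodule.coe_smul, Finset.smul_sum, RingHom.id_apply,
          smul_add] }
  have hinj : Function.Injective Ψ := by
    rw [← LinearMap.ker_eq_bot, LinearMap.ker_eq_bot']
    rintro ⟨f, x⟩ hfx
    have hfx' : (∑ i, (f i : V)) + x = 0 := hfx
    have h1 : ∀ i, (f i : V) = 0 := by
      intro i
      refine hnd i _ (f i).2 fun w hw => ?_
      apply h.refl
      have h2 : B w ((∑ i, (f i : V)) + x) = B w (f i : V) := by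
        rw [h.add_right, h.refl _ _ ((h.le_perp_perp X) x.2 w (hX i hw)), add_zero]
        have h3 : ∀ s : Finset (Fin n), B w (∑ j ∈ s, (f j : V)) = ∑ j ∈ s, B w (f j : V) := by
          intro s
          induction s using Finset.induction_on with
          | empty => simpa using h.zero_right w
          | insert a s ha ih => rw [Finset.sum_insert ha, Finset.sum_insert ha, h.add_right, ih]
        rw [h3, Finset.sum_eq_single i]
        · intro j _ hj
          exact ho i j (Ne.symm hj) w hw _ (f j).2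
        · intro h4; exact absurd (Finset.mem_univ i) h4
      rw [← h2, hfx', h.zero_right]
    rw [Finset.sum_congr rfl fun i _ => h1 i, Finset.sum_const_zero, zero_add] at hfx'
    have h5 : f = 0 := funext fun i => Subtype.ext (h1 i)
    have h6 : x = 0 := Subtype.ext hfx'
    rw [h5, h6]
    rfl
  have h1 := LinearMap.finrank_le_finrank_of_injective hinj
  rwa [Module.finrank_prod, Module.finrank_pi_fintype] at h1

variable [Finite V] [Finite F] [Fact p.Prime] {r s : ℕ} [Fact r.Prime] [CharP F r]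

theorem nofix_of_le (hpF : (p : F) ≠ 0) (h : SplF τ B G) (hPG : P ≤ G) (hP : IsPGroup p P) {D : Submodule F V}
    (hD : D ≤ h.perp (fixP P)) : ∀ u ∈ D, u ∈ fixP P → u = 0 := by
  have hfd : FiniteDimensional F V := Module.Finite.of_finite
  intro u hu hu'
  have h1 : u ∈ fixP P ⊓ h.perp (fixP P) := ⟨hu', hD hu⟩
  rw [(h.isCompl_perp (nd_fix hpF h hPG hP)).inf_eq_bot] at h1
  exact h1

/-- **(D5)** the number of blocks -/
theorem frame_le (hpF : (p : F) ≠ 0) (h : SplF τ B G) (hτ : ∀ a, τ a = a ^ (r ^ s)) (hE : BlkDim F p r s E)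
    (hPG : P ≤ G) (hP : IsPGroup p P) {n : ℕ} {D : Fin n → Submodule F V} (hD : Frm h P D) :
    n * E + finrank F (fixP P) ≤ finrank F V := by
  have h1 := sum_finrank_le h (fun i => (hD.minS i).nd) hD.orth (X := fixP P) hD.le_perp
  have h2 : ∀ i, E ≤ finrank F (D i) := fun i =>
    MinS.le_finrank hpF h hτ hE.two hE.one hPG hP (hD.minS i) (nofix_of_le hpF h hPG hP (hD.le_perp i))
  have h3 : ∑ _i : Fin n, E ≤ ∑ i, finrank F (D i) := Finset.sum_le_sum fun i _ => h2 i
  rw [Finset.sum_const, Finset.card_univ, Fintype.card_fin, smul_eq_mul] at h3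
  omega

theorem exists_frm (hpF : (p : F) ≠ 0) (h : SplF τ B G) (hPG : P ≤ G) (hP : IsPGroup p P) :
    ∃ (n : ℕ) (D : Fin n → Submodule F V), Frm h P D := by
  have hfd : FiniteDimensional F V := Module.Finite.of_finite
  obtain ⟨n, D, h1, h2, h3⟩ := exists_frame h hPG (h.inv_perp hPG (inv_fixP P)) (h.nd_perp (nd_fix hpF h hPG hP))
  exact ⟨n, D, h1, h2, h3⟩

theorem ext_frm (hpF : (p : F) ≠ 0) {h : SplF τ B G} (hPG : P ≤ G) (hP : IsPGroup p P) {n : ℕ} {D : Fin n → Submodule F V}
    (hD : Frm h P D) {a b : V ≃ₗ[F] V} (h1 : ∀ v ∈ fixP P, a v = b v) (h2 : ∀ i, ∀ v ∈ D i, a v = b v) : a = b := by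
  have hfd : FiniteDimensional F V := Module.Finite.of_finite
  refine equiv_ext_compl (h.isCompl_perp (nd_fix hpF h hPG hP)) h1 fun w hw => ?_
  have h3 : (⨆ i, D i) ≤ LinearMap.eqLocus (a : V →ₗ[F] V) (b : V →ₗ[F] V) := iSup_le fun i v hv => h2 i v hv
  rw [hD.sup] at h3
  exact h3 hw

/-- **(D5)** `P` is abelian in small dimensions -/
theorem abelian_of_lt (hpF : (p : F) ≠ 0) (h : SplF τ B G) (hτ : ∀ a, τ a = a ^ (r ^ s)) (hE : BlkDim F p r s E)
    (hPG : P ≤ G) (hP : IsPGroup p P) (hlt : finrank F V < p * E + finrank F (fixP P)) :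
    ∀ a ∈ P, ∀ b ∈ P, a * b = b * a := by
  obtain ⟨n, D, hD⟩ := exists_frm hpF h hPG hP
  intro a ha b hb
  refine ext_frm hpF hPG hP hD (fun v hv => ?_) fun i v hv => ?_
  · rw [LinearEquiv.mul_apply, LinearEquiv.mul_apply, hv b hb, hv a ha, hv b hb]
  · rw [LinearEquiv.mul_apply, LinearEquiv.mul_apply]
    refine MinS.comm hpF h hτ hE.two hE.one hPG hP (hD.minS i) ?_ a ha b hb v hv
    have h1 := sum_finrank_le h (fun i => (hD.minS i).nd) hD.orth (X := fixP P) hD.le_perp
    have h2 : finrank F (D i) ≤ ∑ i, finrank F (D i) :=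
      Finset.single_le_sum (f := fun i => finrank F (D i)) (fun _ _ => Nat.zero_le _) (Finset.mem_univ i)
    omega

/-- **(D5)** `P` is cyclic in small dimensions -/
theorem cyclic_of_lt (hpF : (p : F) ≠ 0) (h : SplF τ B G) (hτ : ∀ a, τ a = a ^ (r ^ s)) (hE : BlkDim F p r s E)
    (hPG : P ≤ G) (hP : IsPGroup p P) (hlt : finrank F V < 2 * E + finrank F (fixP P)) : IsCyclic P := by
  have hfd : FiniteDimensional F V := Module.Finite.of_finite
  have hab := abelian_of_lt hpF h hτ hE hPG hP (hlt.trans_le (Nat.add_le_add_right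
    (Nat.mul_le_mul_right E (Fact.out : p.Prime).two_le) _))
  obtain ⟨n, D, hD⟩ := exists_frm hpF h hPG hP
  have h1 := frame_le hpF h hτ hE hPG hP hD
  have hn : n < 2 := by
    have h2 : n * E < 2 * E := by omega
    exact lt_of_mul_lt_mul_right h2 (Nat.zero_le _)
  rcases Nat.eq_zero_or_pos n with hn0 | hn0
  · subst hn0
    have h2 : P = ⊥ := by
      rw [eq_bot_iff]
      intro y hy
      exact ext_frm hpF hPG hP hD (fun v hv => hv y hy) fun i => i.elim0
    rw [h2]
    infer_instance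
  · have hn1 : n = 1 := by omega
    subst hn1
    have hf : ∀ y ∈ P, (∀ v ∈ D 0, y v = v) → y = 1 := by
      intro y hy hy'
      refine ext_frm hpF hPG hP hD (fun v hv => hv y hy) fun i v hv => ?_
      rw [Subsingleton.elim i 0] at hv
      exact hy' v hv
    obtain ⟨M, hM, hMf⟩ : ∃ M, Irr P M ∧ ∀ y ∈ P, (∀ v ∈ M, y v = v) → y = 1 := by
      rcases (hD.minS 0).irr_or_two hpF h hPG hP with h1 | ⟨M, N, h1⟩
      · exact ⟨D 0, h1, hf⟩
      · refine ⟨M, h1.irrM, fun y hy h2 => hf y hy fun v hv => ?_⟩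
        rw [← h1.sup] at hv
        obtain ⟨m, hm, w, hw, rfl⟩ := Submodule.mem_sup.1 hv
        rw [map_add, h2 m hm]
        have h4 : y w - w = 0 := by
          refine h1.pN _ (N.sub_mem (h1.irrN.inv y hy w hw) hw) fun m' hm' => ?_
          have h5 := h.pres y (hPG hy) w m'
          rw [h2 m' hm'] at h5
          rw [h.sub_left, h5, sub_self]
        rw [sub_eq_zero.1 h4]
    obtain ⟨z, hz⟩ := cyclic_of_irr hab hM le_rfl hMf
    rw [hz]
    infer_instance

end Cfsg.Agent.H513.XC
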